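import Groth.Prelude.Def_StMod2
import Groth.Agent.Fib44.Equiv
import Groth.Agent.Fib44.Psh
import Groth.Agent.AlgSt88.QCMorSt
import Groth.Agent.AlgSt88.SpHom
import Groth.Agent.AlgSt88.PshRep

/-!
Pairs (object, morphism to a test object) for a morphism to a space that is affine: there is a
terminal one, and sections of pushforwards are computed there.
-/

set_option autoImplicit false
set_option maxHeartbeats 1000000
set_option linter.style.haveILetI false
set_option backward.isDefEq.respectTransparency false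
set_option backward.isDefEq.respectTransparency.types false
universe u

open CategoryTheory CategoryTheory.Limits AlgebraicGeometry Opposite AlgSt FibCat

namespace Groth.Agent.StMod44

variable {S : Scheme.{u}} {𝒳 : AlgSt.Cat S} {M : AlgSp.Sp S}

theorem map_eqToHom_cancel {C : Type*} [Category C]
    (P : Cᵒᵖ ⥤ Type u) {A B : C} (h : A = B) (h' : B = A) (x : P.obj (op A)) :
    P.map (eqToHom h).op (P.map (eqToHom h').op x) = x := by
  subst h
  simp

/-- Over an affine scheme, the base change of an affine morphism is the category of an affine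
scheme. -/
theorem exists_affine_fp {π : 𝒳 ⥤ᵇ ofSp M} (hπ : RepByAlgSpWith AlgSp.IsAffineMor π)
    (Z : Over S) (hZ : IsAffine Z.left) (y : overCat Z ⥤ᵇ ofSp M) :
    ∃ W : Over S, IsAffine W.left ∧ ∃ e : overCat W ⥤ᵇ fp y π, IsEquivOver e := by
  obtain ⟨F, e, he, hP⟩ := hπ Z y
  obtain ⟨W, i, fst, sq, hW⟩ := hP hZ (𝟙 _)
  haveI : IsIso fst := sq.isIso_fst_of_isIso
  exact ⟨W, hW, BasedFunctor.comp (BasedFunctor.comp (ofOverCat W) (ofSpMap fst)) e,
    AlgSt88.isEquivOver_comp (AlgSt88.isEquivOver_comp (AlgSt88.isEquivOver_ofOverCat W)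
      (AlgSt88.isEquivOver_ofSpMap fst)) he⟩

/-- Among the objects mapping to a fixed affine étale test object there is a terminal one. -/
theorem exists_terminal_pair {π : 𝒳 ⥤ᵇ ofSp M} (hπ : RepByAlgSpWith AlgSp.IsAffineMor π)
    (E : AlgSp.EtOver M) (hE : IsAffine E.obj.left.left) :
    ∃ (ξ₀ : 𝒳.obj) (α₀ : π.obj ξ₀ ⟶ StMod.etaOf E), IsAffine (StMod.sch 𝒳 ξ₀) ∧
      ∀ (ξ : 𝒳.obj) (α : π.obj ξ ⟶ StMod.etaOf E),
        ∃! φ : ξ ⟶ ξ₀, π.map φ ≫ α₀ = α := by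
  let Z : Over S := E.obj.left
  let y : overCat Z ⥤ᵇ ofSp M := BasedFunctor.comp (ofOverCat Z) (ofSpMap E.obj.hom)
  have key : ∀ (T : Over S) (g : T ⟶ Z), M.obj.map g.op (StMod.etaOf E).sec =
      E.obj.hom.hom.app (op T) ⟨g⟩ := fun T g => by
    have e := NatTrans.naturality_apply E.obj.hom.hom g.op
      (⟨𝟙 Z⟩ : ULift (Z ⟶ Z))
    have e' : ((AlgSp.yon S).obj Z).obj.map g.op (⟨𝟙 Z⟩ : ULift (Z ⟶ Z)) = ⟨g⟩ :=
      ULift.ext _ _ (Category.comp_id g)
    rw [e'] at e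
    exact e.symm
  obtain ⟨W, hW, e, he⟩ := exists_affine_fp hπ Z hE y
  haveI := Fib44.isEquivalence_of_isEquivOver he
  have ht : IsTerminal (e.obj (Over.mk (𝟙 W))) :=
    IsTerminal.isTerminalObj e.toFunctor _ Over.mkIdTerminal
  obtain ⟨P₀, hP₀⟩ : ∃ P : (fp y π).obj, P = e.obj (Over.mk (𝟙 W)) := ⟨_, rfl⟩
  rw [← hP₀] at ht
  have hb₁ : (π.obj P₀.obj.snd).base = P₀.obj.fst.left :=
    @IsHomLift.codomain_eq _ _ _ _ (ofSp M).p _ _ _ _ _ P₀.obj.iso.hom P₀.property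
  let α₀ : π.obj P₀.obj.snd ⟶ StMod.etaOf E :=
    P₀.obj.iso.inv ≫ (⟨P₀.obj.fst.hom, key _ _⟩ : y.obj P₀.obj.fst ⟶ StMod.etaOf E)
  have hschW : (fp y π).p.obj P₀ = W := by
    rw [hP₀]; exact e.w_obj _
  have haff : IsAffine (StMod.sch 𝒳 P₀.obj.snd) := by
    have h1 : 𝒳.p.obj P₀.obj.snd = W := ((FibCat.fpSnd y π).w_obj P₀).trans hschW
    change IsAffine (𝒳.p.obj P₀.obj.snd).left
    rw [h1]; exact hW
  refine ⟨P₀.obj.snd, α₀, haff, fun ξ α => ?_⟩
  have hbase : (π.obj ξ).base = 𝒳.p.obj ξ := π.w_obj ξ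
  let a : (overCat Z).obj := Over.mk (eqToHom hbase.symm ≫ α.hom)
  have hi : M.obj.map (eqToHom hbase.symm).op (π.obj ξ).sec = (y.obj a).sec := by
    rw [← α.map_sec]
    change _ = E.obj.hom.hom.app _ ⟨eqToHom hbase.symm ≫ α.hom⟩
    rw [← key, op_comp, Functor.map_comp_apply]
    rfl
  let iso : y.obj a ≅ π.obj ξ :=
    { hom := ⟨eqToHom hbase.symm, hi⟩
      inv := ⟨eqToHom hbase, (congrArg _ hi.symm).trans (map_eqToHom_cancel M.obj hbase hbase.symm _)⟩
      hom_inv_id := Stk.EltObj.hom_ext (by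
        change eqToHom hbase.symm ≫ eqToHom hbase = _
        simp; rfl)
      inv_hom_id := Stk.EltObj.hom_ext (by
        change eqToHom hbase ≫ eqToHom hbase.symm = _
        simp) }
  let P : (fp y π).obj :=
    ⟨{ fst := a, snd := ξ, iso := iso }, IsHomLift.of_fac' _ _ _ rfl hbase (by
      change eqToHom hbase.symm = _
      simp)⟩
  let m : P ⟶ P₀ := ht.from P
  have hm : π.map m.hom.snd ≫ α₀ = α := by
    have w : y.map m.hom.fst ≫ P₀.obj.iso.hom = iso.hom ≫ π.map m.hom.snd := m.hom.w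
    have w' : π.map m.hom.snd ≫ P₀.obj.iso.inv = iso.inv ≫ y.map m.hom.fst := by
      rw [Iso.eq_inv_comp, ← Category.assoc, ← w, Category.assoc, Iso.hom_inv_id, Category.comp_id]
    refine Stk.EltObj.hom_ext ?_
    change ((π.map m.hom.snd ≫ (P₀.obj.iso.inv ≫ _)).hom) = _
    rw [← Category.assoc, w']
    change (eqToHom hbase ≫ m.hom.fst.left) ≫ P₀.obj.fst.hom = α.hom
    rw [Category.assoc, Over.w m.hom.fst]
    change eqToHom hbase ≫ eqToHom hbase.symm ≫ α.hom = α.hom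
    simp
  refine ⟨m.hom.snd, hm, fun φ hφ => ?_⟩
  have hφ' : eqToHom hbase.symm ≫ (π.map φ).hom ≫ α₀.hom = a.hom := by
    have := congrArg Stk.EltObj.Hom.hom hφ
    change (π.map φ).hom ≫ α₀.hom = α.hom at this
    change _ = eqToHom hbase.symm ≫ α.hom
    rw [this]
  let g : a ⟶ P₀.obj.fst :=
    Over.homMk (eqToHom hbase.symm ≫ (π.map φ).hom ≫ P₀.obj.iso.inv.hom) (by
      simp only [Category.assoc]
      exact hφ')
  let m' : P ⟶ P₀ := ObjectProperty.homMk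
    { fst := g
      snd := φ
      w := Stk.EltObj.hom_ext (by
        change (eqToHom hbase.symm ≫ (π.map φ).hom ≫ P₀.obj.iso.inv.hom) ≫ P₀.obj.iso.hom.hom =
          eqToHom hbase.symm ≫ (π.map φ).hom
        have : P₀.obj.iso.inv.hom ≫ P₀.obj.iso.hom.hom = 𝟙 _ :=
          congrArg Stk.EltObj.Hom.hom P₀.obj.iso.inv_hom_id
        simp only [Category.assoc]
        rw [this, Category.comp_id]) }
  have hmm : m' = m := ht.hom_ext _ _
  exact congrArg (fun k : P ⟶ P₀ => k.hom.snd) hmm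

/-- An affine morphism to a space is cohomologically affine. -/
theorem isCohAffine_of_affine {π : 𝒳 ⥤ᵇ ofSp M} (hπ : RepByAlgSpWith AlgSp.IsAffineMor π) :
    StMod.IsCohAffine π := by
  intro F G u hu E hE t
  obtain ⟨ξ₀, α₀, haff, huniq⟩ := exists_terminal_pair hπ E hE
  obtain ⟨x, hx⟩ := hu ξ₀ haff (t.1 ξ₀ α₀)
  choose φ hφ hφu using huniq
  refine ⟨⟨fun ξ α => F.obj.mapTop (φ ξ α) x, fun ξ' ξ ψ α => ?_⟩, ?_⟩
  · change F.obj.mapTop ψ (F.obj.mapTop (φ ξ α) x) = F.obj.mapTop (φ ξ' (π.map ψ ≫ α)) x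
    rw [← StMod.Mod.mapTop_comp]
    rw [hφu ξ' (π.map ψ ≫ α) (ψ ≫ φ ξ α) (by
      show π.map (ψ ≫ φ ξ α) ≫ α₀ = π.map ψ ≫ α
      rw [π.toFunctor.map_comp, Category.assoc, hφ])]
  · refine StMod.Mod.RelSect.ext _ _ _ fun ξ α => ?_
    change (u.hom.app ξ).app ⊤ (F.obj.mapTop (φ ξ α) x) = t.1 ξ α
    rw [← StMod.Mod.mapTop_app, hx, t.2 (φ ξ α) α₀, hφ]

/-- An affine morphism to a space is quasi-compact. -/
theorem isQuasiCompactMor_of_affine (h𝒳 : IsAlgStack Scheme.fppfPrecoverage 𝒳) (M : AlgSp.Space S)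
    {π : 𝒳 ⥤ᵇ ofSp M.obj} (hπ : RepByAlgSpWith AlgSp.IsAffineMor π) :
    IsQuasiCompactMor Scheme.fppfPrecoverage π := by
  refine AlgSt88.isQuasiCompactMor_of_affine h𝒳 (AlgSt88.isDM_ofSp M).1 fun T hT t => ?_
  obtain ⟨W, hW, e, he⟩ := exists_affine_fp hπ T hT t
  haveI := hW
  haveI : CompactSpace (Points (overCat W)) :=
    (AlgSt88.isQuasiCompact_iff (AlgSt88.isAlgStack_overCat W)).1
      (AlgSt88.isQuasiCompact_overCat W)
  exact AlgSt88.compactSpace_of_equiv he (AlgSt88.isAlgStack_fp (AlgSt88.isDM_ofSp M).1.isStack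
    (AlgSt88.isDM_ofSp M).1.diag (AlgSt88.isAlgStack_overCat T) h𝒳 t π)

end Groth.Agent.StMod44
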